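import Mathlib
import Cfsg.Agent.Lib.PGroups.Basic

/-!
One descent step for centralisers with a Sylow part of order `p ^ 2`: from `C(Z)/Z` to the whole group,
when a normal subgroup separates the element from the group `Z` of order `p`.
-/

set_option autoImplicit false

namespace Cfsg.Agent.GenA.MaxClassFusion

open Subgroup
open scoped commutatorElement

/-- Every `p`-subgroup centralising `x` has order at most `p ^ 2`. -/
def Small (p : ℕ) {H : Type*} [Group H] (x : H) : Prop :=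
  ∀ R : Subgroup H, IsPGroup p R → R ≤ centralizer {x} → Nat.card R ≤ p ^ 2

theorem card_eq_map_mul {C Q : Type*} [Group C] [Group Q] (q : C →* Q) (L : Subgroup C) :
    Nat.card L = Nat.card (L.map q) * Nat.card ↥(L ⊓ q.ker) := by
  have h := relIndex_mul_relIndex ⊥ (L ⊓ q.ker) L bot_le inf_le_left
  rw [relIndex_bot_left, relIndex_bot_left, inf_relIndex_left, relIndex_ker] at h
  rw [← h, mul_comm]

/-- A normal subgroup of order `p` of a `p`-group is central. -/
theorem normal_prime_central {X : Type*} [Group X] [Finite X] {p : ℕ} [hp : Fact p.Prime]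
    (hX : IsPGroup p X) (Z : Subgroup X) [Z.Normal] (hZ : Nat.card Z = p) :
    ∀ z ∈ Z, ∀ g : X, g * z = z * g := by
  haveI := hX.isNilpotent
  have hd := card_dvd_of_le (commutator_le_left Z (⊤ : Subgroup X))
  rw [hZ] at hd
  have hbot : ⁅Z, (⊤ : Subgroup X)⁆ = ⊥ := by
    rcases (Nat.dvd_prime hp.out).1 hd with h | h
    · exact card_eq_one.1 h
    · have he := eq_of_le_of_card_ge (commutator_le_left Z (⊤ : Subgroup X)) (by rw [hZ, h])
      have := le_bot_iff.1 (PGroups.Basic.le_of_le_commutator_sup Z ⊥ (by rw [he, sup_bot_eq]))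
      rw [this, card_bot] at hZ
      exact absurd hZ.symm hp.out.ne_one
  intro z hz g
  have := hbot ▸ commutator_mem_commutator hz (mem_top g)
  rw [mem_bot, commutatorElement_eq_one_iff_mul_comm] at this
  exact this.symm

variable {H : Type*} [Group H] [Finite H] {p : ℕ} [hp : Fact p.Prime]

/-- In a group whose centraliser is small modulo `Z`, no larger `p`-group in `C(Z)` centralises `x`. -/
theorem small_in_centralizer {Q : Type*} [Group Q] {P Z : Subgroup H} (hP : IsPGroup p P)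
    (hZ : Nat.card Z = p) (hZP : P ≤ centralizer (Z : Set H)) {x : H} (hxP : x ∈ P)
    {A : Subgroup H} (hAP : A ≤ P) (hA : Nat.card A = p ^ 2) (hAx : A ≤ centralizer {x})
    {u : H} (huP : u ∈ P) (hux : ⁅u, x⁆ ∈ Z) (hu : u * x ≠ x * u)
    (q : ↥(centralizer (Z : Set H)) →* Q) (hq : q.ker = Z.subgroupOf _)
    (hQ : Small p (q ⟨x, hZP hxP⟩))
    (R : Subgroup H) (hR : IsPGroup p R) (hRx : R ≤ centralizer {x}) (hRZ : R ≤ centralizer (Z : Set H)) :
    Nat.card R ≤ p ^ 2 := by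
  set D := (centralizer {q ⟨x, hZP hxP⟩}).comap q with hD
  have hDmem : ∀ v : ↥(centralizer (Z : Set H)), v ∈ D ↔ ⁅(v : H), x⁆ ∈ Z := fun v => by
    rw [hD, mem_comap, mem_centralizer_singleton_iff, ← commutatorElement_eq_one_iff_mul_comm,
      ← map_commutatorElement, ← MonoidHom.mem_ker, hq, mem_subgroupOf]
    rfl
  have hmemD : ∀ {v : ↥(centralizer (Z : Set H))}, ⁅(v : H), x⁆ ∈ Z → v ∈ D := fun {v} h => (hDmem v).2 h
  -- `p`-subgroups of `D` have order at most `p ^ 3`
  have hbound : ∀ L : Subgroup ↥(centralizer (Z : Set H)), IsPGroup p L → L ≤ D → Nat.card L ≤ p ^ 3 := by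
    intro L hL hLD
    rw [card_eq_map_mul q L, show p ^ 3 = p ^ 2 * p from pow_succ p 2]
    refine Nat.mul_le_mul (hQ _ (hL.map q) (map_le_iff_le_comap.2 hLD)) ?_
    refine (card_le_of_le (inf_le_right : L ⊓ q.ker ≤ q.ker)).trans ?_
    rw [hq, ← hZ]
    exact Nat.card_le_card_of_injective (fun a => (⟨((a : ↥(centralizer (Z : Set H))) : H), a.2⟩ : Z))
      fun a b h => Subtype.ext (Subtype.ext (congrArg (fun z : Z => (z : H)) h))
  by_contra hlt
  push Not at hlt
  have hx1 : ∀ v : H, v * x = x * v → ⁅v, x⁆ ∈ Z := fun v h => by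
    rw [commutatorElement_eq_one_iff_mul_comm.2 h]; exact one_mem _
  set R' := R.subgroupOf (centralizer (Z : Set H))
  have hR'c : Nat.card R' = Nat.card R := Nat.card_congr (subgroupOfEquivOfLe hRZ).toEquiv
  have hR'D : R' ≤ D := fun v hv => hmemD (hx1 _ (mem_centralizer_singleton_iff.1 (hRx hv)))
  have hR'p : IsPGroup p R' := hR.comap_subtype
  set S := P.subgroupOf (centralizer (Z : Set H)) ⊓ D with hSdef
  have hSp : IsPGroup p S := hP.comap_subtype.to_le inf_le_left
  have hSc : p ^ 3 ≤ Nat.card S := by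
    set A' := A.subgroupOf (centralizer (Z : Set H))
    have hA'S : A' ≤ S := fun v hv =>
      ⟨hAP hv, hmemD (hx1 _ (mem_centralizer_singleton_iff.1 (hAx hv)))⟩
    have hA'c : Nat.card A' = p ^ 2 := by
      rw [← hA]; exact Nat.card_congr (subgroupOfEquivOfLe (hAP.trans hZP)).toEquiv
    have huS : (⟨u, hZP huP⟩ : ↥(centralizer (Z : Set H))) ∈ S := ⟨huP, hmemD hux⟩
    obtain ⟨j, hj⟩ := hSp.exists_card_eq
    have hne : Nat.card A' < Nat.card S := lt_of_le_of_ne (card_le_of_le hA'S) fun h => hu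
      (mem_centralizer_singleton_iff.1 (hAx ((eq_of_le_of_card_ge hA'S h.ge).ge huS : (⟨u, hZP huP⟩ : ↥(centralizer (Z : Set H))) ∈ A')))
    rw [hA'c, hj] at hne
    rw [hj]
    exact Nat.pow_le_pow_right hp.out.pos ((Nat.pow_lt_pow_iff_right hp.out.one_lt).1 hne)
  have hR'3 : p ^ 3 ≤ Nat.card R' := by
    obtain ⟨j, hj⟩ := hR'p.exists_card_eq
    rw [← hR'c, hj] at hlt
    rw [hj]
    exact Nat.pow_le_pow_right hp.out.pos ((Nat.pow_lt_pow_iff_right hp.out.one_lt).1 hlt)
  -- both are Sylow subgroups of `D`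
  have hsyl : ∀ L : Subgroup ↥(centralizer (Z : Set H)), IsPGroup p L → L ≤ D → p ^ 3 ≤ Nat.card L →
      ∃ T : Sylow p D, (T : Subgroup D) = L.subgroupOf D := by
    intro L hL hLD hc
    obtain ⟨T, hT⟩ := (hL.comap_subtype (H := L) (K := D)).exists_le_sylow
    refine ⟨T, (eq_of_le_of_card_ge hT ?_).symm⟩
    show _ ≤ Nat.card ↥(L.subgroupOf D)
    rw [Nat.card_congr (subgroupOfEquivOfLe hLD).toEquiv]
    refine le_trans ?_ hc
    have := hbound ((T : Subgroup D).map D.subtype) (T.2.map _) (map_subtype_le _)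
    rwa [card_subtype] at this
  obtain ⟨T1, hT1⟩ := hsyl S hSp inf_le_right hSc
  obtain ⟨T2, hT2⟩ := hsyl R' hR'p hR'D hR'3
  obtain ⟨g, hg⟩ := MulAction.exists_smul_eq D T1 T2
  have hmove : ((g : ↥(centralizer (Z : Set H))) : H) * u * ((g : ↥(centralizer (Z : Set H))) : H)⁻¹ ∈ R := by
    have h1 : (⟨⟨u, hZP huP⟩, hmemD hux⟩ : D) ∈ (T1 : Subgroup D) := by
      rw [hT1]; exact ⟨huP, hmemD hux⟩
    have h2 : MulAut.conj g ⟨⟨u, hZP huP⟩, hmemD hux⟩ ∈ (T2 : Subgroup D) := by
      rw [← hg, Sylow.coe_subgroup_smul]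
      exact Subgroup.smul_mem_pointwise_smul _ _ _ h1
    rw [hT2] at h2
    exact h2
  -- conjugation by `g` moves `x` inside `x Z`
  set d : H := ((g : ↥(centralizer (Z : Set H))) : H)
  have hz : ⁅d, x⁆ ∈ Z := (hDmem _).1 g.2
  set r := d * u * d⁻¹
  have hr1 : Commute r x := mem_centralizer_singleton_iff.1 (hRx hmove)
  have hr2 : Commute r ⁅d, x⁆ := (mem_centralizer_iff.1 (hRZ hmove) _ hz).symm
  have hr3 : Commute r (d * x * d⁻¹) := by
    have := hr2.mul_right hr1
    rwa [commutatorElement_def, show d * x * d⁻¹ * x⁻¹ * x = d * x * d⁻¹ by group] at this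
  refine hu ?_
  have := hr3.eq
  rw [show d * u * d⁻¹ * (d * x * d⁻¹) = d * (u * x) * d⁻¹ by group,
    show d * x * d⁻¹ * (d * u * d⁻¹) = d * (x * u) * d⁻¹ by group] at this
  exact mul_left_cancel (mul_right_cancel this)

/-- The descent step. -/
theorem small_step {Q : Type*} [Group Q] {P Z N A : Subgroup H} [N.Normal] (hP : IsPGroup p P)
    (hZ : Nat.card Z = p) (hZP : P ≤ centralizer (Z : Set H)) {x : H} (hxP : x ∈ P) (hxA : x ∈ A)
    (hAP : A ≤ P) (hA : Nat.card A = p ^ 2) (hAx : A ≤ centralizer {x}) (hZA : Z ≤ A) (hZN : Z ≤ N)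
    (hxN : x ∉ N) {u : H} (huP : u ∈ P) (hux : ⁅u, x⁆ ∈ Z) (hu : u * x ≠ x * u)
    (q : ↥(centralizer (Z : Set H)) →* Q) (hq : q.ker = Z.subgroupOf _)
    (hQ : Small p (q ⟨x, hZP hxP⟩)) : Small p x := by
  intro R hR hRx
  have hAN : A ⊓ N = Z := by
    refine (eq_of_le_of_card_ge (le_inf hZA hZN) ?_).symm
    obtain ⟨j, hj, e⟩ := (Nat.dvd_prime_pow hp.out).1 (hA ▸ card_dvd_of_le (inf_le_left : A ⊓ N ≤ A))
    rw [e, hZ]
    refine le_trans (Nat.pow_le_pow_right hp.out.pos (?_ : j ≤ 1)) (pow_one p).le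
    by_contra hj1
    have := eq_of_le_of_card_ge (inf_le_left : A ⊓ N ≤ A) (by rw [e, hA, show j = 2 by omega])
    exact hxN (this.ge hxA).2
  set X := centralizer ({x} : Set H)
  have hA' : IsPGroup p (A.subgroupOf X) := (hP.to_le hAP).comap_subtype
  obtain ⟨T, hT⟩ := hA'.exists_le_sylow
  obtain ⟨T', hT'⟩ := (hR.comap_subtype (H := R) (K := X)).exists_le_sylow
  have hRT : Nat.card R ≤ Nat.card (T : Subgroup X) := by
    rw [← Nat.card_congr (subgroupOfEquivOfLe hRx).toEquiv]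
    refine (card_le_of_le hT').trans (le_of_eq ?_)
    rw [T'.card_eq_multiplicity, T.card_eq_multiplicity]
  refine hRT.trans ?_
  by_contra hlt
  push Not at hlt
  set V := (T : Subgroup X).map X.subtype
  have hV : IsPGroup p V := T.2.map _
  have hVc : Nat.card V = Nat.card (T : Subgroup X) := card_subtype _ _
  have hAV : A ≤ V := fun a ha => ⟨⟨a, hAx ha⟩, hT ha, rfl⟩
  haveI := hV.isNilpotent
  have hlt' : A.subgroupOf V < ⊤ := by
    refine lt_top_iff_ne_top.2 fun h => ?_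
    have := card_le_of_le (subgroupOf_eq_top.1 h)
    rw [hA, hVc] at this
    omega
  have hn := (Group.normalizerCondition_of_isNilpotent (G := V)) _ hlt'
  set M := (normalizer ((A.subgroupOf V : Subgroup V) : Set V)).map V.subtype
  have hMV : M ≤ V := map_subtype_le _
  have hAM : A ≤ M := fun a ha => ⟨⟨a, hAV ha⟩, le_normalizer ha, rfl⟩
  have hMlt : p ^ 2 < Nat.card M := by
    rw [← hA]
    refine lt_of_le_of_ne (card_le_of_le hAM) fun h => hn.not_ge fun v hv => ?_
    exact (eq_of_le_of_card_ge hAM h.ge).ge ⟨v, hv, rfl⟩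
  have hMX : M ≤ X := hMV.trans (map_subtype_le _)
  have hMp : IsPGroup p M := hV.to_le hMV
  have hMA : ∀ g ∈ M, ∀ a ∈ A, g * a * g⁻¹ ∈ A := by
    rintro g ⟨v, hv, rfl⟩ a ha
    exact (mem_normalizer_iff.1 hv ⟨a, hAV ha⟩).1 ha
  haveI : (Z.subgroupOf M).Normal := ⟨fun z hz g => by
    show (g : H) * z * (g : H)⁻¹ ∈ Z
    rw [← hAN]
    exact ⟨hMA _ g.2 _ (hZA hz), ‹N.Normal›.conj_mem _ (hZN hz) _⟩⟩
  have hMZ : M ≤ centralizer (Z : Set H) := fun g hg => mem_centralizer_iff.2 fun z hz => by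
    have := normal_prime_central (p := p) hMp (Z.subgroupOf M)
      (by rw [← hZ]; exact Nat.card_congr (subgroupOfEquivOfLe (hZA.trans hAM)).toEquiv)
      ⟨z, hAM (hZA hz)⟩ hz ⟨g, hg⟩
    exact (congrArg Subtype.val this).symm
  have := small_in_centralizer hP hZ hZP hxP hAP hA hAx huP hux hu q hq hQ M hMp hMX hMZ
  omega

end Cfsg.Agent.GenA.MaxClassFusion
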