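import Cfsg.Agent.GenA.MaxClassFusion.Good
import Cfsg.Agent.GenA.MaxClassFusion.Step

/-!
The descent through the lower central series of a Sylow subgroup of maximal class.
-/

set_option autoImplicit false

namespace Cfsg.Agent.GenA.MaxClassFusion

open Subgroup
open Cfsg.Agent.PGroups.MaximalClass
open scoped commutatorElement

universe u v

variable {S : Type u} [Group S] [Finite S] {p : ℕ} {H : Type v} [Group H]

/-- The centraliser of the image of the `m`-th term. -/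
abbrev Cz (f : S →* H) (m : ℕ) : Subgroup H := centralizer (((lcs S m).map f : Subgroup H) : Set H)

/-- The image of the `m`-th term inside its centraliser. -/
abbrev Zc (f : S →* H) (m : ℕ) : Subgroup ↥(Cz f m) := ((lcs S m).map f).subgroupOf (Cz f m)

instance Zc_normal (f : S →* H) (m : ℕ) : (Zc f m).Normal :=
  ⟨fun z hz g => by
    have h : (z : H) * g = g * z := mem_centralizer_iff.1 g.2 _ hz
    have e : g * z * g⁻¹ = z := Subtype.ext (by
      show (g : H) * z * (g : H)⁻¹ = z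
      rw [← h, mul_inv_cancel_right])
    rwa [e]⟩

theorem mem_Cz (f : S →* H) {m : ℕ} (hker : lcs S (m + 1) ≤ f.ker) (s : S) : f s ∈ Cz f m := by
  rw [mem_centralizer_iff]
  rintro _ ⟨z, hz, rfl⟩
  exact MaxClassRank.mul_comm_map f (by rwa [← lcs_succ]) hz (mem_top s)

/-- The induced map into `C(Z)/Z`. -/
def fq (f : S →* H) (m : ℕ) (hker : lcs S (m + 1) ≤ f.ker) : S →* ↥(Cz f m) ⧸ Zc f m :=
  (QuotientGroup.mk' (Zc f m)).comp (f.codRestrict (Cz f m) (mem_Cz f hker))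

theorem fq_apply (f : S →* H) (m : ℕ) (hker : lcs S (m + 1) ≤ f.ker) (s : S) :
    fq f m hker s = QuotientGroup.mk' (Zc f m) ⟨f s, mem_Cz f hker s⟩ := rfl

theorem fq_ker (f : S →* H) (m : ℕ) (hker : f.ker = lcs S (m + 1)) :
    (fq f m hker.ge).ker = lcs S m := by
  ext s
  rw [MonoidHom.mem_ker, fq_apply, QuotientGroup.mk'_apply, QuotientGroup.eq_one_iff, mem_subgroupOf]
  refine ⟨fun ⟨z, hz, e⟩ => ?_, fun h => ⟨s, h, rfl⟩⟩
  have h1 : z⁻¹ * s ∈ lcs S (m + 1) := hker ▸ (by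
    rw [MonoidHom.mem_ker, map_mul, map_inv, e, inv_mul_cancel])
  have := mul_mem hz (lcs_le m h1)
  rwa [mul_inv_cancel_left] at this

theorem fq_index (f : S →* H) (m : ℕ) (hker : lcs S (m + 1) ≤ f.ker) (hidx : ¬ p ∣ f.range.index) :
    ¬ p ∣ (fq f m hker).range.index := by
  intro h
  refine hidx (h.trans ?_)
  have e : (fq f m hker).range = ((f.range).subgroupOf (Cz f m)).map (QuotientGroup.mk' (Zc f m)) := by
    ext y
    constructor
    · rintro ⟨s, rfl⟩; exact ⟨⟨f s, mem_Cz f hker s⟩, ⟨s, rfl⟩, rfl⟩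
    · rintro ⟨w, ⟨s, hs⟩, rfl⟩
      exact ⟨s, congrArg (QuotientGroup.mk' (Zc f m)) (Subtype.ext hs)⟩
  rw [e, ← relIndex_mul_index (show f.range ≤ Cz f m by rintro _ ⟨s, rfl⟩; exact mem_Cz f hker s)]
  exact (index_map_dvd _ (QuotientGroup.mk'_surjective _)).trans (Dvd.intro _ rfl)

theorem fq_normal_mem (f : S →* H) {m : ℕ} (hker : lcs S (m + 1) ≤ f.ker) (N : Subgroup H) (s : S)
    (hs : f s ∈ N) : fq f m hker s ∈ (N.subgroupOf (Cz f m)).map (QuotientGroup.mk' (Zc f m)) :=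
  ⟨⟨f s, mem_Cz f hker s⟩, hs, rfl⟩

theorem fq_normal_not_mem (f : S →* H) {m : ℕ} (hker : lcs S (m + 1) ≤ f.ker) (N : Subgroup H)
    (hZN : lcs S m ≤ N.comap f) (s : S) (hs : f s ∉ N) :
    fq f m hker s ∉ (N.subgroupOf (Cz f m)).map (QuotientGroup.mk' (Zc f m)) := by
  rintro ⟨w, hw, e⟩
  rw [fq_apply, QuotientGroup.mk'_apply, QuotientGroup.mk'_apply, QuotientGroup.eq] at e
  obtain ⟨z, hz, e'⟩ := e
  refine hs ?_
  have : (w : H) * f z = f s := by
    rw [e']
    show (w : H) * ((w : H)⁻¹ * f s) = f s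
    rw [mul_inv_cancel_left]
  rw [← this]
  exact mul_mem hw (hZN hz)

variable [Finite H] [hp : Fact p.Prime] {n : ℕ} (hn : 3 ≤ n) (hcard : Nat.card S = p ^ n)
  (hcl : Group.nilpotencyClass S = n - 1) {x : S} (hx1 : x ∉ lcs S 1)
  (hx : ∀ i, 1 ≤ i → i + 2 ≤ n - 1 → x ∉ two S i)

theorem small_of_sylow_two (f : S →* H) (hidx : ¬ p ∣ f.range.index) (hc : Nat.card f.range = p ^ 2)
    (y : H) : Small p y := by
  intro R hR _
  obtain ⟨j, hj⟩ := hR.exists_card_eq
  have h := card_subgroup_dvd_card R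
  rw [hj, ← f.range.card_mul_index, hc] at h
  have := ((Nat.Coprime.pow_left j ((hp.out.coprime_iff_not_dvd).2 hidx))).dvd_of_dvd_mul_right h
  rw [hj]
  exact Nat.le_of_dvd (pow_pos hp.out.pos 2) this

include hn hcard hcl hx1 hx

theorem descend (f : S →* H) {m : ℕ} (hm1 : 1 ≤ m) (hm : m + 1 ≤ n - 1) (hker : f.ker = lcs S (m + 1))
    (N : Subgroup H) [N.Normal] (hN : lcs S m ≤ N.comap f) (hfx : f x ∉ N)
    (hQ : Small p (fq f m hker.ge x)) : Small p (f x) := by
  have hS : IsPGroup p S := IsPGroup.of_card hcard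
  set L := zpowers x ⊔ lcs S m with hL
  have hLc : centMod (lcs S (m + 1)) x = L := centMod_eq hn hcard hcl hx1 hx hm1 hm
  obtain ⟨u, hu1, hu2⟩ := exists_move hn hcard hcl hx1 hx hm1 hm
  refine small_step (p := p) (P := f.range) (Z := (lcs S m).map f) (N := N) (A := L.map f) ?_ ?_ ?_
    ⟨x, rfl⟩ (mem_map_of_mem f (mem_sup_left (mem_zpowers x))) ?_ ?_ ?_ (map_mono le_sup_right)
    (map_le_iff_le_comap.2 hN) hfx (u := f u) ⟨u, rfl⟩ ?_ ?_ (QuotientGroup.mk' (Zc f m))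
    (QuotientGroup.ker_mk' _) hQ
  · rw [MonoidHom.range_eq_map]; exact (hS.to_subgroup ⊤).map f
  · rw [← relIndex_ker, hker]; exact MaxClassRank.step_relIndex hn hcard hcl hm1 hm
  · rintro _ ⟨s, rfl⟩; exact mem_Cz f hker.ge s
  · rintro _ ⟨s, _, rfl⟩; exact ⟨s, rfl⟩
  · rw [← relIndex_ker, hker]; exact relIndex_line hn hcard hcl hx1 hx hm1 hm
  · rintro _ ⟨s, hs, rfl⟩
    rw [mem_centralizer_singleton_iff, ← commutatorElement_eq_one_iff_mul_comm, ← map_commutatorElement,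
      ← MonoidHom.mem_ker, hker]
    exact mem_centMod.1 (hLc ▸ hs)
  · rw [← map_commutatorElement]; exact mem_map_of_mem f hu1
  · rw [ne_eq, ← commutatorElement_eq_one_iff_mul_comm, ← map_commutatorElement, ← MonoidHom.mem_ker, hker]
    exact hu2

end Cfsg.Agent.GenA.MaxClassFusion
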