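import Cfsg.Agent.GenA.MaxClassFusion.Main
import Cfsg.Agent.GroupStructure3.PronormalOvergroup
import Cfsg.Prelude.Def_CaseTheorems

/-!
The dichotomy: an element with centraliser of `p`-part `p ^ 2`, or a quasisimple group.
-/

set_option autoImplicit false

namespace Cfsg.Agent.GenA.MaxClassFusion

open Subgroup
open Cfsg.Agent.PGroups.MaximalClass
open scoped commutatorElement

universe u

variable {G : Type u} [Group G] [Finite G] {p : ℕ} [hp : Fact p.Prime] {P : Sylow p G} {n : ℕ}
  (hn : 3 ≤ n) (hcard : Nat.card P = p ^ n) (hcl : Group.nilpotencyClass ↥(P : Subgroup G) = n - 1)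
include hn hcard hcl

theorem ker_subtype_eq : (P : Subgroup G).subtype.ker = lcs ↥(P : Subgroup G) (n - 1) := by
  rw [lcs_eq_bot (p := p) (by omega) hcard, ker_subtype]

omit hn hcl in
theorem not_dvd_range : ¬ p ∣ (P : Subgroup G).subtype.range.index := by
  rw [range_subtype]; exact P.not_dvd_index

theorem factorization_eq {x : ↥(P : Subgroup G)} (hx1 : x ∉ lcs ↥(P : Subgroup G) 1)
    (hx : ∀ i, 1 ≤ i → i + 2 ≤ n - 1 → x ∉ two ↥(P : Subgroup G) i) (hsmall : Small p (x : G)) :
    (Nat.card (centralizer ({(x : G)} : Set G))).factorization p = 2 := by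
  obtain ⟨T⟩ : Nonempty (Sylow p (centralizer ({(x : G)} : Set G))) := inferInstance
  have h1 := hsmall _ (T.2.map (centralizer ({(x : G)} : Set G)).subtype) (map_subtype_le _)
  rw [card_subtype, T.card_eq_multiplicity] at h1
  refine le_antisymm ((Nat.pow_le_pow_iff_right hp.out.one_lt).1 h1) ?_
  set A := (zpowers x ⊔ lcs ↥(P : Subgroup G) (n - 2)).map (P : Subgroup G).subtype with hA
  have hAc : Nat.card A = p ^ 2 := by
    rw [hA, ← relIndex_ker, ker_subtype_eq hn hcard hcl, show n - 1 = n - 2 + 1 by omega]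
    exact relIndex_line hn hcard hcl hx1 hx (by omega) (by omega)
  have hAx : A ≤ centralizer ({(x : G)} : Set G) := by
    rintro _ ⟨s, hs, rfl⟩
    rw [mem_centralizer_singleton_iff, ← commutatorElement_eq_one_iff_mul_comm]
    rw [SetLike.mem_coe, ← centMod_eq hn hcard hcl hx1 hx (by omega) (by omega), mem_centMod,
      show n - 2 + 1 = n - 1 by omega, lcs_eq_bot (p := p) (by omega) hcard, mem_bot] at hs
    exact (map_commutatorElement (P : Subgroup G).subtype s x).symm.trans (by rw [hs, map_one])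
  refine (hp.out.pow_dvd_iff_le_factorization Nat.card_pos.ne').1 ?_
  rw [← hAc]
  exact card_dvd_of_le hAx

/-- A large normal subgroup gives an element with small centraliser. -/
theorem exists_small_of_large (N : Subgroup G) [N.Normal]
    (hne : N.comap (P : Subgroup G).subtype ≠ ⊤) (hlarge : p ^ 2 ≤ Nat.card (N.comap (P : Subgroup G).subtype)) :
    ∃ x ∈ (P : Subgroup G), (Nat.card (centralizer ({x} : Set G))).factorization p = 2 := by
  set f := (P : Subgroup G).subtype
  set K := N.comap f
  obtain ⟨x, hxK, hx1, hx⟩ := exists_uniform hn hcard hcl K hne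
  refine ⟨x, x.2, factorization_eq hn hcard hcl hx1 hx ?_⟩
  have hker := ker_subtype_eq hn hcard hcl
  have hidx := not_dvd_range (P := P) hcard
  obtain ⟨r, hr⟩ := index_eq_pow (P.2 : IsPGroup p ↥(P : Subgroup G)) K
  rcases Nat.lt_or_ge r 2 with hr2 | hr2
  · refine small_of_normal hn hcard hcl hx1 hx (n - 1) (by omega) le_rfl G f hker hidx N ‹_› ?_ hxK
    rw [lcs_one]
    haveI : IsCyclic (↥(P : Subgroup G) ⧸ K) := by
      interval_cases r
      · haveI : Subsingleton (↥(P : Subgroup G) ⧸ K) :=
          (Nat.card_eq_one_iff_unique.mp ((index_eq_card K).symm.trans hr)).1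
        infer_instance
      · exact isCyclic_of_prime_card (p := p) ((index_eq_card K).symm.trans (hr.trans (pow_one p)))
    exact Subgroup.Normal.quotient_commutative_iff_commutator_le.mp inferInstance
  · have hKeq := normal_eq_lcs hn hcard hcl K hr2 hr
    have hrn : r + 2 ≤ n := by
      have h := K.card_mul_index
      rw [hr] at h
      rw [← Nat.pow_le_pow_iff_right hp.out.one_lt, ← hcard, ← h, pow_add, mul_comm (Nat.card K)]
      exact Nat.mul_le_mul_left _ hlarge
    refine small_of_normal_two hn hcard hcl hx1 hx (by omega) f hker hidx N ?_ hxK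
    change _ ≤ K
    rw [hKeq]
    exact lcs_antitone (by omega)

omit hn hcard hcl in
theorem prime_dvd_card_of_normal (hcore : Cfsg.pPrimeCore p G = ⊥) (N : Subgroup G) [hN : N.Normal]
    (h : N ≠ ⊥) : p ∣ Nat.card N := by
  by_contra hd
  refine h (le_bot_iff.1 (hcore ▸ le_sSup ⟨hN, ?_⟩))
  exact ((hp.out.coprime_iff_not_dvd).2 hd).symm

/-- Without large normal subgroups the only possible one is the centre of the Sylow subgroup. -/
theorem normal_eq_center (hcore : Cfsg.pPrimeCore p G = ⊥)
    (hsmall : ∀ N : Subgroup G, N.Normal → N ≠ ⊤ → Nat.card (N.comap (P : Subgroup G).subtype) < p ^ 2)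
    (N : Subgroup G) [N.Normal] (htop : N ≠ ⊤) (hbot : N ≠ ⊥) :
    N = (lcs ↥(P : Subgroup G) (n - 2)).map (P : Subgroup G).subtype := by
  set f := (P : Subgroup G).subtype with hf
  set Z0 := (lcs ↥(P : Subgroup G) (n - 2)).map f with hZ0
  obtain ⟨hcen, hcenc⟩ := center_eq hn hcard hcl
  set K := N.comap f with hK
  obtain ⟨Q, hQ⟩ := GroupStructure3.PronormalOvergroup.sylow_inf_normal P N
  have hKmap : K.map f = (P : Subgroup G) ⊓ N := by rw [hK, map_comap_eq, hf, range_subtype]
  have hKcQ : Nat.card K = Nat.card Q := by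
    rw [← card_subtype (P : Subgroup G) K, ← hf, hKmap, ← hQ, card_subtype]
  have hKp : Nat.card K = p := by
    obtain ⟨j, hj⟩ := ((P.2 : IsPGroup p ↥(P : Subgroup G)).to_subgroup K).exists_card_eq
    have hlt := hsmall N ‹_› htop
    rw [← hK, hj] at hlt
    have hj2 := (Nat.pow_lt_pow_iff_right hp.out.one_lt).1 hlt
    have hd := Q.dvd_card_of_dvd_card (prime_dvd_card_of_normal hcore N hbot)
    rw [← hKcQ, hj] at hd
    have hj0 : j ≠ 0 := by rintro rfl; rw [pow_zero, Nat.dvd_one] at hd; exact hp.out.ne_one hd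
    rw [hj, show j = 1 by omega, pow_one]
  have hKZ : K = lcs ↥(P : Subgroup G) (n - 2) := by
    rw [← hcen]
    refine eq_of_le_of_card_ge (fun z hz => mem_center_iff.2 fun g => ?_) (by rw [hKp, hcenc])
    exact normal_prime_central P.2 K hKp z hz g
  have hQZ : (Q : Subgroup N).map N.subtype = Z0 := by rw [hQ, ← hKmap, hKZ]
  have hZ0c : Nat.card Z0 = p := by rw [hZ0, hf, card_subtype, ← hKZ, hKp]
  set C := centralizer (Z0 : Set G)
  have hPC : (P : Subgroup G) ≤ C := fun v hv => by
    rw [mem_centralizer_iff]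
    rintro _ ⟨z, hz, rfl⟩
    exact congrArg Subtype.val ((mem_center_iff.1 (hcen.ge hz) ⟨v, hv⟩).symm)
  -- the normaliser of `Z0` in `N` centralises it
  have hnc : ∀ t ∈ N, t ∈ normalizer (Z0 : Set G) → t ∈ C := by
    intro t htN htZ
    set L := (C ⊓ N) ⊔ (P : Subgroup G)
    have hLC : L ≤ C := sup_le inf_le_left hPC
    have hLPN : L ≤ N ⊔ (P : Subgroup G) := sup_le (inf_le_right.trans le_sup_left) le_sup_right
    have htC : ∀ y ∈ C, t * y * t⁻¹ ∈ C := fun y hy => by
      rw [mem_centralizer_iff]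
      intro z hz
      have hz' : t⁻¹ * z * t ∈ Z0 := by simpa using (mem_normalizer_iff.1 (inv_mem htZ) z).1 hz
      have := mem_centralizer_iff.1 hy _ hz'
      calc z * (t * y * t⁻¹) = t * ((t⁻¹ * z * t) * y) * t⁻¹ := by group
        _ = t * (y * (t⁻¹ * z * t)) * t⁻¹ := by rw [this]
        _ = t * y * t⁻¹ * z := by group
    have hLle : L.map (MulAut.conj t).toMonoidHom ≤ L := by
      rw [Subgroup.map_sup, sup_le_iff]
      constructor
      · rintro _ ⟨y, ⟨hy1, hy2⟩, rfl⟩
        exact le_sup_left (b := (P : Subgroup G))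
          (⟨htC y hy1, ‹N.Normal›.conj_mem y hy2 t⟩ : t * y * t⁻¹ ∈ C ⊓ N)
      · rintro _ ⟨v, hv, rfl⟩
        have h1 : ⁅t, v⁆ ∈ C ⊓ N := by
          refine ⟨?_, ?_⟩
          · show ⁅t, v⁆ ∈ C
            rw [commutatorElement_def]; exact mul_mem (htC v (hPC hv)) (inv_mem (hPC hv))
          · show ⁅t, v⁆ ∈ N
            rw [commutatorElement_def, mul_assoc, mul_assoc, ← mul_assoc v]
            exact mul_mem htN (‹N.Normal›.conj_mem _ (inv_mem htN) v)
        have := mul_mem (mem_sup_left h1 : ⁅t, v⁆ ∈ L) (mem_sup_right hv)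
        show t * v * t⁻¹ ∈ L
        rwa [commutatorElement_def, show t * v * t⁻¹ * v⁻¹ * v = t * v * t⁻¹ by group] at this
    have hLeq := eq_of_le_of_card_ge hLle
      (le_of_eq (card_map_of_injective (MulAut.conj t).injective).symm)
    have htL : t ∈ normalizer (L : Set G) := mem_normalizer_iff.2 fun y => by
      conv_rhs => rw [← hLeq]
      exact (mem_map_iff_mem (MulAut.conj t).injective (K := L) (x := y)).symm
    obtain ⟨k, hk, hks⟩ := GroupStructure3.PronormalOvergroup.exists_frattini
      (P.subtype (le_sup_right : (P : Subgroup G) ≤ L))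
      (by rw [Sylow.coe_subtype, map_subgroupOf_eq_of_le le_sup_right]) htL
    obtain ⟨b, hb, v, hv, hkvb⟩ := mem_sup_of_normal_left.1 (hLPN hk)
    have hbC : b ∈ C := by
      have := mul_mem (hLC hk) (inv_mem (hPC hv))
      rwa [← hkvb, mul_inv_cancel_right] at this
    set s := b⁻¹ * t
    have hsN : s ∈ N := mul_mem (inv_mem hb) htN
    have hsP : s ∈ normalizer ((P : Subgroup G) : Set G) := by
      have := mul_mem (le_normalizer hv) hks
      rwa [← hkvb, show v * ((b * v)⁻¹ * t) = b⁻¹ * t by group] at this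
    have hmod : ∀ a : ↥(P : Subgroup G), ∃ z ∈ Z0, s * a * s⁻¹ = z * a := by
      intro a
      refine ⟨s * a * s⁻¹ * (a : G)⁻¹, ?_, by group⟩
      rw [hZ0, ← hKZ, hKmap]
      refine ⟨show _ ∈ (P : Subgroup G) from mul_mem ((mem_normalizer_iff.1 hsP a).1 a.2) (inv_mem a.2), ?_⟩
      show s * (a : G) * s⁻¹ * (a : G)⁻¹ ∈ N
      rw [mul_assoc, mul_assoc, ← mul_assoc (a : G)]
      exact mul_mem hsN (‹N.Normal›.conj_mem _ (inv_mem hsN) _)
    have hsC : s ∈ C := by
      have hle : lcs ↥(P : Subgroup G) (n - 2) ≤ (centralizer {s}).comap f := by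
        rw [show n - 2 = n - 3 + 1 by omega, lcs_succ, commutator_le]
        intro a _ w _
        obtain ⟨z, hz, hza⟩ := hmod a
        obtain ⟨z', hz', hzw⟩ := hmod w
        have hza' : Commute z a := mem_centralizer_iff.1 (hPC a.2) z hz
        have hzw' : Commute z w := mem_centralizer_iff.1 (hPC w.2) z hz
        have hz'a : Commute z' a := mem_centralizer_iff.1 (hPC a.2) z' hz'
        have hz'w : Commute z' w := mem_centralizer_iff.1 (hPC w.2) z' hz'
        have hzP : z ∈ (P : Subgroup G) := map_subtype_le _ hz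
        have hzz : Commute z' z := mem_centralizer_iff.1 (hPC hzP) z' hz'
        rw [mem_comap, mem_centralizer_singleton_iff]
        show (⁅a, w⁆ : ↥(P : Subgroup G)).1 * s = s * (⁅a, w⁆ : ↥(P : Subgroup G)).1
        have e : s * (((a : G) * w * (a : G)⁻¹ * (w : G)⁻¹)) * s⁻¹ =
            (a : G) * w * (a : G)⁻¹ * (w : G)⁻¹ := by
          rw [show s * ((a : G) * w * (a : G)⁻¹ * (w : G)⁻¹) * s⁻¹ =
            (s * a * s⁻¹) * (s * w * s⁻¹) * (s * a * s⁻¹)⁻¹ * (s * w * s⁻¹)⁻¹ by group, hza, hzw]
          have c1 : Commute z ((a : G) * (z' * w)) := hza'.mul_right (hzz.symm.mul_right hzw')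
          have c2 : Commute z' ((a : G) * w * (a : G)⁻¹) := (hz'a.mul_right hz'w).mul_right hz'a.inv_right
          calc z * a * (z' * w) * (z * a)⁻¹ * (z' * w)⁻¹
              = (z * ((a : G) * (z' * w))) * (a : G)⁻¹ * z⁻¹ * (w : G)⁻¹ * z'⁻¹ := by group
            _ = ((a : G) * (z' * w)) * (z * (a : G)⁻¹) * z⁻¹ * (w : G)⁻¹ * z'⁻¹ := by rw [c1.eq]; group
            _ = ((a : G) * z') * w * ((a : G)⁻¹ * z) * z⁻¹ * (w : G)⁻¹ * z'⁻¹ := by
              rw [hza'.inv_right.eq]; group
            _ = (z' * ((a : G) * w * (a : G)⁻¹)) * (w : G)⁻¹ * z'⁻¹ := by rw [← hz'a.eq]; group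
            _ = ((a : G) * w * (a : G)⁻¹) * (z' * (w : G)⁻¹) * z'⁻¹ := by rw [c2.eq]; group
            _ = _ := by rw [hz'w.inv_right.eq]; group
        simpa [commutatorElement_def] using (mul_inv_eq_iff_eq_mul.1 e).symm
      rw [mem_centralizer_iff]
      rintro _ ⟨y, hy, rfl⟩
      exact mem_centralizer_singleton_iff.1 (hle hy)
    have := mul_mem hbC hsC
    rwa [mul_inv_cancel_left] at this
  -- the normal complement is trivial
  have hQcen : normalizer ((Q : Subgroup N) : Set N) ≤ centralizer ((Q : Subgroup N) : Set N) := by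
    intro t ht
    have htZ : (t : G) ∈ normalizer (Z0 : Set G) := by
      rw [← hQZ]
      exact le_normalizer_map N.subtype (mem_map_of_mem _ ht)
    rw [mem_centralizer_iff]
    intro z hz
    exact Subtype.ext (mem_centralizer_iff.1 (hnc t t.2 htZ) z (hQZ ▸ mem_map_of_mem N.subtype hz))
  set W := (MonoidHom.transferSylow Q hQcen).ker
  have hWcop : ¬ p ∣ Nat.card W := MonoidHom.not_dvd_card_ker_transferSylow Q hQcen
  have hWidx : W.index = p := by
    rw [(MonoidHom.ker_transferSylow_isComplement' Q hQcen).symm.index_eq_card, ← hKcQ, hKp]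
  haveI : W.Characteristic := characteristic_iff_map_le.2 fun φ => by
    rintro _ ⟨a, ha, rfl⟩
    have h1 : orderOf (QuotientGroup.mk' W (φ a)) ∣ p := by
      have h := orderOf_dvd_natCard (QuotientGroup.mk' W (φ a))
      exact (h.trans (dvd_of_eq ((index_eq_card W).symm.trans hWidx)))
    have h2 : orderOf (QuotientGroup.mk' W (φ a)) ∣ Nat.card W := by
      refine (orderOf_map_dvd _ _).trans ?_
      rw [show orderOf (φ a) = orderOf a from MulEquiv.orderOf_eq φ a, ← W.orderOf_mk a ha]
      exact orderOf_dvd_natCard _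
    have h3 := Nat.eq_one_of_dvd_coprimes ((hp.out.coprime_iff_not_dvd).2 hWcop) h1 h2
    exact (QuotientGroup.eq_one_iff _).1 (orderOf_eq_one_iff.1 h3)
  have hW : W = ⊥ := by
    by_contra hne
    refine hWcop ?_
    have := prime_dvd_card_of_normal hcore (W.map N.subtype)
      (fun h => hne ((Subgroup.map_eq_bot_iff_of_injective _ N.subtype_injective).1 h))
    rwa [card_subtype] at this
  rw [hW, index_bot] at hWidx
  exact (eq_of_le_of_card_ge (hQZ ▸ map_subtype_le _) (by rw [hWidx, hZ0c])).symm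

/-- The dichotomy. -/
theorem dichotomy (hcore : Cfsg.pPrimeCore p G = ⊥)
    (hres : ∀ N : Subgroup G, N.Normal → (N.index).Coprime p → N = ⊤) :
    (∃ x ∈ (P : Subgroup G), (Nat.card (centralizer ({x} : Set G))).factorization p = 2) ∨
      (Cfsg.IsQuasisimple G ∧ Nat.card (center G) ≤ p) := by
  classical
  refine or_iff_not_imp_left.2 fun hno => ?_
  set f := (P : Subgroup G).subtype with hf
  have hsmall : ∀ N : Subgroup G, N.Normal → N ≠ ⊤ → Nat.card (N.comap f) < p ^ 2 := by
    intro N hN hne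
    by_contra h
    push Not at h
    refine hno (exists_small_of_large hn hcard hcl N (fun htop => hne (hres N hN ?_)) h)
    have hPN : (P : Subgroup G) ≤ N := fun v hv => (htop.ge (mem_top ⟨v, hv⟩) :)
    exact (Nat.Coprime.coprime_dvd_left (index_dvd_of_le hPN)
      ((hp.out.coprime_iff_not_dvd).2 P.not_dvd_index).symm)
  obtain ⟨hcen, hcenc⟩ := center_eq hn hcard hcl
  set Z0 := (lcs ↥(P : Subgroup G) (n - 2)).map f with hZ0
  have hnorm : ∀ N : Subgroup G, N.Normal → N = ⊤ ∨ N ≤ Z0 ∧ N ≤ center G := by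
    intro N hN
    by_cases htop : N = ⊤
    · exact Or.inl htop
    by_cases hbot : N = ⊥
    · rw [hbot]; exact Or.inr ⟨bot_le, bot_le⟩
    have e := normal_eq_center hn hcard hcl hcore hsmall N htop hbot
    refine Or.inr ⟨e.le, ?_⟩
    haveI := hN
    have hPC : (P : Subgroup G) ≤ centralizer (N : Set G) := fun v hv => by
      rw [mem_centralizer_iff, e]
      rintro _ ⟨z, hz, rfl⟩
      exact congrArg Subtype.val ((mem_center_iff.1 (hcen.ge hz) ⟨v, hv⟩).symm)
    have hC := hres _ inferInstance (Nat.Coprime.coprime_dvd_left (index_dvd_of_le hPC)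
      ((hp.out.coprime_iff_not_dvd).2 P.not_dvd_index).symm)
    exact fun z hz => mem_center_iff.2 fun g => (mem_centralizer_iff.1 (hC ▸ mem_top g) z hz).symm
  obtain ⟨a, ha⟩ : ∃ a : ↥(P : Subgroup G), a ∉ lcs ↥(P : Subgroup G) 1 := by
    by_contra! h
    have := index_lcs hn hcard hcl le_rfl (show 1 ≤ n - 1 by omega)
    have htop : lcs ↥(P : Subgroup G) 1 = ⊤ := eq_top_iff.2 fun a _ => h a
    rw [htop, index_top] at this
    exact (Nat.one_lt_pow (by omega) hp.out.one_lt).ne this
  have hperf : commutator G = ⊤ := by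
    refine (hnorm _ inferInstance).resolve_right fun ⟨hle, _⟩ => ?_
    set M := zpowers a ⊔ lcs ↥(P : Subgroup G) 1 with hM
    have hMidx : M.index = p := index_line hn hcard hcl ha
    have hMc : Nat.card M * p = p ^ n := by rw [← hcard, ← M.card_mul_index, hMidx]
    haveI : (M.map f).Normal := Normal.of_commutator_le _
      (hle.trans (map_mono ((lcs_antitone (show 1 ≤ n - 2 by omega)).trans le_sup_right)))
    have hMne : M.map f ≠ ⊤ := fun h => by
      have h1 := card_le_of_le (map_subtype_le M : M.map f ≤ (P : Subgroup G))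
      rw [h, card_top] at h1
      have h2 : Nat.card M = Nat.card G := by rw [← card_subtype (P : Subgroup G) M, ← hf, h, card_top]
      have h3 := (P : Subgroup G).card_le_card_group
      rw [hcard] at h1 h3
      rw [h2] at hMc
      have : Nat.card G * 2 ≤ Nat.card G * p := Nat.mul_le_mul_left _ hp.out.two_le
      have := Nat.card_pos (α := G)
      omega
    have h := hsmall _ inferInstance hMne
    rw [comap_map_eq_self_of_injective (P : Subgroup G).subtype_injective] at h
    have h' : p ^ 2 * p ≤ Nat.card M * p := by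
      rw [hMc, ← pow_succ]; exact Nat.pow_le_pow_right hp.out.pos hn
    exact (Nat.le_of_mul_le_mul_right h' hp.out.pos).not_gt h
  have hcne : center G ≠ ⊤ := fun h => by
    have hb : commutator G = ⊥ := by
      rw [_root_.commutator_def, eq_bot_iff, commutator_le]
      intro u _ v _
      rw [mem_bot, commutatorElement_eq_one_iff_mul_comm]
      exact (mem_center_iff.1 (h ▸ mem_top u) v).symm
    rw [hperf] at hb
    have : a = 1 := Subtype.ext ((mem_bot).1 (hb ▸ mem_top (a : G) : (a : G) ∈ (⊥ : Subgroup G)))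
    exact ha (this ▸ one_mem _)
  refine ⟨⟨⟨hperf⟩, ?_⟩, ?_⟩
  · haveI : Nontrivial (G ⧸ center G) := by
      rw [QuotientGroup.nontrivial_iff]; exact hcne
    refine ⟨fun M hM => ?_⟩
    rcases hnorm _ (hM.comap (QuotientGroup.mk' (center G))) with h | ⟨_, h⟩
    · right
      rw [← map_comap_eq_self_of_surjective (QuotientGroup.mk'_surjective (center G)) M, h,
        map_top_of_surjective _ (QuotientGroup.mk'_surjective _)]
    · left
      rw [← map_comap_eq_self_of_surjective (QuotientGroup.mk'_surjective (center G)) M, Subgroup.map_eq_bot_iff,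
        QuotientGroup.ker_mk']
      exact h
  · have h := ((hnorm _ inferInstance).resolve_left hcne).1
    refine (card_le_of_le h).trans (le_of_eq ?_)
    rw [hZ0, hf, card_subtype, ← hcen, hcenc]

end Cfsg.Agent.GenA.MaxClassFusion
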