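import Cfsg.Agent.GenA.MaxClassPowers.Step
import Cfsg.Agent.GenA.MaxClassRank

/-!
Uniform elements of a `p`-group of maximal class: an element outside the derived subgroup, outside a
given proper normal subgroup and outside every two-step centraliser.
-/

set_option autoImplicit false

namespace Cfsg.Agent.GenA.MaxClassFusion

open Subgroup
open Cfsg.Agent.PGroups.MaximalClass
open scoped commutatorElement

universe u

variable {S : Type u} [Group S]

/-- The centraliser of the section `L i / L (i + 2)` of the lower central series. -/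
def two (S : Type u) [Group S] (i : ℕ) : Subgroup S :=
  (centralizer (((lcs S i).map (QuotientGroup.mk' (lcs S (i + 2)))) : Set _)).comap
    (QuotientGroup.mk' (lcs S (i + 2)))

theorem mem_two {i : ℕ} {x : S} : x ∈ two S i ↔ ∀ u ∈ lcs S i, ⁅x, u⁆ ∈ lcs S (i + 2) := by
  simp only [two, mem_comap, mem_centralizer_iff, SetLike.mem_coe, Subgroup.mem_map,
    forall_exists_index, and_imp, forall_apply_eq_imp_iff₂]
  refine forall₂_congr fun u _ => ?_
  rw [← QuotientGroup.eq_one_iff (N := lcs S (i + 2)), ← QuotientGroup.mk'_apply, map_commutatorElement,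
    commutatorElement_eq_one_iff_mul_comm]
  exact eq_comm

/-- The elements commuting with `x` modulo a normal subgroup. -/
def centMod (N : Subgroup S) [N.Normal] (x : S) : Subgroup S :=
  (centralizer {QuotientGroup.mk' N x}).comap (QuotientGroup.mk' N)

theorem mem_centMod {N : Subgroup S} [N.Normal] {x v : S} : v ∈ centMod N x ↔ ⁅v, x⁆ ∈ N := by
  rw [centMod, mem_comap, mem_centralizer_singleton_iff, ← QuotientGroup.eq_one_iff (N := N),
    ← QuotientGroup.mk'_apply, map_commutatorElement, commutatorElement_eq_one_iff_mul_comm]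

theorem centMod_symm {N : Subgroup S} [N.Normal] {a b : S} (h : a ∈ centMod N b) : b ∈ centMod N a := by
  rw [mem_centMod] at *
  rw [← commutatorElement_inv]
  exact inv_mem h

variable [Finite S] {p : ℕ} [hp : Fact p.Prime]

/-- A `p`-group is not the union of `p` proper subgroups. -/
theorem exists_avoid (hS : IsPGroup p S) (C : ℕ → Subgroup S) (hC : ∀ i < p, C i ≠ ⊤) :
    ∃ s : S, ∀ i < p, s ∉ C i := by
  classical
  haveI : Fintype S := Fintype.ofFinite S
  by_contra! h
  have h1 : (Finset.univ.erase (1 : S)) ⊆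
      (Finset.range p).biUnion fun i => (Finset.univ.filter (· ∈ C i)).erase 1 := by
    intro x hx
    obtain ⟨i, hi, hxi⟩ := h x
    simp only [Finset.mem_biUnion, Finset.mem_range, Finset.mem_erase, Finset.mem_filter]
    exact ⟨i, hi, (Finset.mem_erase.1 hx).1, Finset.mem_univ _, hxi⟩
  have h2 : ∀ i ∈ Finset.range p,
      ((Finset.univ.filter (· ∈ C i)).erase 1).card * p + p ≤ Fintype.card S := by
    intro i hi
    obtain ⟨r, hr⟩ := hS.index (C i)
    have h3 := (C i).card_mul_index
    rw [hr, Nat.card_eq_fintype_card, Fintype.card_subtype, Nat.card_eq_fintype_card] at h3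
    have hr0 : r ≠ 0 := by
      rintro rfl
      rw [pow_zero, index_eq_one] at hr
      exact hC i (Finset.mem_range.1 hi) hr
    have hpos : 0 < (Finset.univ.filter (· ∈ C i)).card :=
      Finset.card_pos.2 ⟨1, by simp [one_mem]⟩
    rw [Finset.card_erase_of_mem (by simp [one_mem]), Nat.sub_mul, one_mul,
      Nat.sub_add_cancel (Nat.le_mul_of_pos_left p hpos), ← h3]
    exact Nat.mul_le_mul_left _ (Nat.le_self_pow hr0 p)
  have h4 := (Finset.card_le_card h1).trans Finset.card_biUnion_le
  rw [Finset.card_erase_of_mem (Finset.mem_univ _), Finset.card_univ] at h4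
  have h5 := Finset.sum_le_sum h2
  rw [Finset.sum_add_distrib, ← Finset.sum_mul, Finset.sum_const, Finset.sum_const, Finset.card_range,
    smul_eq_mul, smul_eq_mul] at h5
  have h6 := Nat.mul_le_mul_right p h4
  have hp2 := hp.out.two_le
  have hS1 : 1 ≤ Fintype.card S := Fintype.card_pos
  obtain ⟨c, hc⟩ : ∃ c, Fintype.card S = c + 1 := ⟨Fintype.card S - 1, by omega⟩
  rw [hc, Nat.add_sub_cancel] at h6
  rw [hc] at h5
  have : p * p ≤ p := by nlinarith
  nlinarith

omit [Finite S] in
theorem relIndex_zpowers (N : Subgroup S) [N.Normal] {x : S} (h1 : x ∉ N) (h2 : x ^ p ∈ N) :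
    N.relIndex (zpowers x) = p := by
  have h := relIndex_ker (K := zpowers x) (QuotientGroup.mk' N)
  rw [QuotientGroup.ker_mk', MonoidHom.map_zpowers, Nat.card_zpowers] at h
  rw [h]
  refine orderOf_eq_prime ?_ fun h => h1 ((QuotientGroup.eq_one_iff x).1 h)
  rw [← map_pow]
  exact (QuotientGroup.eq_one_iff _).2 h2

variable {n : ℕ} (hn : 3 ≤ n) (hcard : Nat.card S = p ^ n) (hcl : Group.nilpotencyClass S = n - 1)
include hn hcard hcl

theorem two_ne_top {i : ℕ} (hi' : i + 2 ≤ n - 1) : two S i ≠ ⊤ := by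
  intro htop
  obtain ⟨a, ha, ha'⟩ := MaxClassRank.lcs_ne hn hcard hcl (j := i + 1) (by omega) (by omega)
  refine ha' ((?_ : lcs S (i + 1) ≤ lcs S (i + 2)) ha)
  rw [lcs_succ, Subgroup.commutator_comm, commutator_le]
  exact fun y _ u hu => mem_two.1 (htop ▸ mem_top y) u hu

/-- For large `n` the two-step centralisers are periodic with period `p - 1`. -/
theorem two_shift (hpn : p + 2 ≤ n) {i : ℕ} (hi : p ≤ i) (hi' : i + 2 ≤ n - 1) :
    two S i ≤ two S (i - (p - 1)) := by
  have hp2 := hp.out.two_le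
  obtain ⟨y, hy⟩ := MaxClassPowers.exists_base hpn hcard hcl
  set k := i - (p - 1) with hk
  have hk1 : 1 ≤ k := by omega
  have hik : i = k + p - 1 := by omega
  intro x hx
  rw [mem_two] at hx ⊢
  intro u hu
  by_contra hc
  have hcm : ⁅x, u⁆ ∈ lcs S (k + 1) := by
    rw [lcs_succ, Subgroup.commutator_comm]
    exact commutator_mem_commutator (mem_top x) hu
  have huL : u ∈ MaxClassPowers.Lv y k := by rwa [MaxClassPowers.Lv_of_ne y (by omega)]
  have hcL : ⁅x, u⁆ ∈ MaxClassPowers.Lv y k := MaxClassPowers.lcs_le_Lv y k hcm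
  have h1 := MaxClassPowers.Lv_mul_pow hpn hcard hcl hy k (N := lcs S (k + p + 1)) le_rfl hcL huL
  have hup : u ^ p ∈ lcs S i := hik ▸ MaxClassPowers.pow_mem_upper hpn hcard hcl hk1 hu
  have h2 : ⁅x, u ^ p⁆ ∈ lcs S (k + p + 1) := by
    have := hx _ hup
    rwa [show i + 2 = k + p + 1 by omega] at this
  have h3 : ⁅x, u⁆ ^ p ∈ lcs S (k + p + 1) := by
    rw [← QuotientGroup.eq_one_iff, ← QuotientGroup.mk'_apply] at h2 ⊢
    rw [commutatorElement_def x u, show x * u * x⁻¹ * u⁻¹ * u = x * u * x⁻¹ by group, conj_pow,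
      show x * u ^ p * x⁻¹ = ⁅x, u ^ p⁆ * u ^ p by rw [commutatorElement_def]; group, map_mul, h2, one_mul,
      ← commutatorElement_def] at h1
    exact mul_eq_right.1 h1.symm
  have h4 := MaxClassPowers.pow_jump hpn hcard hcl hy (k := k + 1) (by omega) (v := ⁅x, u⁆)
    (by rwa [MaxClassPowers.Lv_of_ne y (Nat.succ_ne_zero k)]) hc
  exact h4.2 (by rwa [show k + 1 + p = k + p + 1 by omega])

/-- Uniform elements exist outside every proper normal subgroup. -/
theorem exists_uniform (K : Subgroup S) [K.Normal] (hK : K ≠ ⊤) :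
    ∃ x : S, x ∉ K ∧ x ∉ lcs S 1 ∧ ∀ i, 1 ≤ i → i + 2 ≤ n - 1 → x ∉ two S i := by
  classical
  have hS : IsPGroup p S := IsPGroup.of_card hcard
  haveI := hS.isNilpotent
  have hp2 := hp.out.two_le
  have hM : K ⊔ lcs S 1 ≠ ⊤ := fun h => hK (top_le_iff.1
    (PGroups.Basic.le_of_le_commutator_sup (⊤ : Subgroup S) K
      (by rw [← _root_.commutator_def, ← lcs_one, sup_comm, h])))
  obtain ⟨x, hx⟩ := exists_avoid hS
    (fun i => if 1 ≤ i ∧ i + 2 ≤ n - 1 then two S i else K ⊔ lcs S 1) (fun i _ => by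
      split_ifs with h
      · exact two_ne_top hn hcard hcl h.2
      · exact hM)
  have h0 : x ∉ K ⊔ lcs S 1 := by
    have := hx 0 hp.out.pos
    rwa [if_neg (by omega)] at this
  refine ⟨x, fun h => h0 (mem_sup_left h), fun h => h0 (mem_sup_right h), fun i => ?_⟩
  induction i using Nat.strong_induction_on with
  | _ i ih =>
    intro hi hi' hxi
    rcases Nat.lt_or_ge i p with hip | hip
    · have := hx i hip
      rw [if_pos ⟨hi, hi'⟩] at this
      exact this hxi
    · exact ih (i - (p - 1)) (by omega) (by omega) (by omega)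
        (two_shift hn hcard hcl (by omega) hip hi' hxi)

variable {x : S} (hx1 : x ∉ lcs S 1) (hx : ∀ i, 1 ≤ i → i + 2 ≤ n - 1 → x ∉ two S i)
include hx

theorem deep {m : ℕ} (hm : m + 1 ≤ n - 1) {w : S} (hw : w ∈ lcs S 1) (h : ⁅w, x⁆ ∈ lcs S (m + 1)) :
    w ∈ lcs S m := by
  have key : ∀ j, j ≤ m → w ∈ lcs S j := by
    intro j
    induction j with
    | zero => exact fun _ => by rw [lcs_zero]; exact mem_top w
    | succ j ih =>
      intro hj
      rcases Nat.eq_zero_or_pos j with rfl | hj0
      · exact hw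
      by_contra hw'
      refine hx j hj0 (by omega) (mem_two.2 fun u hu => ?_)
      have hle : lcs S j ≤ centMod (lcs S (j + 2)) x := by
        rw [MaxClassRank.eq_sup_zpowers hn hcard hcl hj0 (by omega) (ih (by omega)) hw']
        refine sup_le (fun z hz => mem_centMod.2 ?_) (zpowers_le.2 (mem_centMod.2 ?_))
        · rw [lcs_succ]; exact commutator_mem_commutator hz (mem_top x)
        · exact lcs_antitone (by omega) h
      rw [← commutatorElement_inv]
      exact inv_mem (mem_centMod.1 (hle hu))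
  exact key m le_rfl

include hx1

theorem pow_mem {m : ℕ} (hm : m + 1 ≤ n - 1) : x ^ p ∈ lcs S m :=
  deep hn hcard hcl hx hm (MaxClassRank.pow_mem_lcs hn hcard hcl 1 le_rfl hp.out.two_le (by omega) x)
    (by rw [commutatorElement_eq_one_iff_mul_comm.2 ((Commute.refl x).pow_left p).eq]; exact one_mem _)

omit hx in
theorem index_line : (zpowers x ⊔ lcs S 1).index = p := by
  have hP : IsPGroup p S := IsPGroup.of_card hcard
  haveI := hP.isNilpotent
  have h1 := relIndex_mul_index (show lcs S 1 ≤ zpowers x ⊔ lcs S 1 from le_sup_right)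
  rw [index_lcs hn hcard hcl le_rfl (by omega)] at h1
  obtain ⟨i, hi, e1⟩ := (Nat.dvd_prime_pow hp.out).1 (Dvd.intro _ h1)
  obtain ⟨j, hj, e2⟩ := (Nat.dvd_prime_pow hp.out).1 (Dvd.intro_left _ h1)
  rw [e1, e2, ← pow_add] at h1
  have := Nat.pow_right_injective hp.out.two_le h1
  have hi0 : i ≠ 0 := by
    rintro rfl
    rw [pow_zero] at e1
    exact hx1 (relIndex_eq_one.1 e1 (mem_sup_left (mem_zpowers x)))
  have hj0 : j ≠ 0 := by
    rintro rfl
    rw [pow_zero, index_eq_one] at e2
    have h2 : zpowers x ⊔ commutator S = ⊤ := by rw [← lcs_one]; exact e2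
    have h3 := Components.RegularPGroup.zpowers_eq_top hP h2
    obtain ⟨a, ha, ha'⟩ := MaxClassRank.lcs_ne hn hcard hcl (j := 1) le_rfl (by omega)
    refine ha' ((?_ : commutator S ≤ lcs S (1 + 1)) (by rwa [← lcs_one]))
    rw [_root_.commutator_def, commutator_le]
    intro u _ v _
    obtain ⟨a, rfl⟩ := mem_zpowers_iff.1 (h3 ▸ mem_top u : u ∈ zpowers x)
    obtain ⟨b, rfl⟩ := mem_zpowers_iff.1 (h3 ▸ mem_top v : v ∈ zpowers x)
    rw [commutatorElement_eq_one_iff_commute.2 (Commute.zpow_zpow_self x a b)]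
    exact one_mem _
  rw [e2, show j = 1 by omega, pow_one]

omit hx in
/-- The centraliser of `x` modulo the second term is `⟨x⟩ L 1`. -/
theorem centMod_two : centMod (lcs S 2) x = zpowers x ⊔ lcs S 1 := by
  have hle : zpowers x ⊔ lcs S 1 ≤ centMod (lcs S 2) x := by
    refine sup_le (zpowers_le.2 (mem_centMod.2 ?_)) fun z hz => mem_centMod.2 ?_
    · rw [commutatorElement_self]; exact one_mem _
    · rw [show (2 : ℕ) = 1 + 1 from rfl, lcs_succ]; exact commutator_mem_commutator hz (mem_top x)
  have hne : centMod (lcs S 2) x ≠ ⊤ := by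
    intro htop
    -- `x` would be central modulo the second term
    obtain ⟨a, ha, ha'⟩ := MaxClassRank.lcs_ne hn hcard hcl (j := 1) le_rfl (by omega)
    refine ha' ((?_ : lcs S 1 ≤ lcs S (1 + 1)) ha)
    rw [lcs_one, _root_.commutator_def, commutator_le]
    intro v _ w _
    have hall : centMod (lcs S 2) w = ⊤ := by
      have hw : zpowers x ⊔ lcs S 1 ≤ centMod (lcs S 2) w := by
        refine sup_le (zpowers_le.2 (centMod_symm (htop ▸ mem_top w))) fun z hz => mem_centMod.2 ?_
        rw [show (2 : ℕ) = 1 + 1 from rfl, lcs_succ]; exact commutator_mem_commutator hz (mem_top w)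
      by_cases hwM : w ∈ zpowers x ⊔ lcs S 1
      · refine eq_top_iff.2 fun z _ => centMod_symm ?_
        have hz : zpowers x ⊔ lcs S 1 ≤ centMod (lcs S 2) z := by
          refine sup_le (zpowers_le.2 (centMod_symm (htop ▸ mem_top z))) fun t ht => mem_centMod.2 ?_
          rw [show (2 : ℕ) = 1 + 1 from rfl, lcs_succ]; exact commutator_mem_commutator ht (mem_top z)
        exact hz hwM
      · have hlt : zpowers x ⊔ lcs S 1 < centMod (lcs S 2) w :=
          lt_of_le_of_ne hw fun h => hwM (h ▸ mem_centMod.2 (by rw [commutatorElement_self]; exact one_mem _))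
        have h2 := relIndex_mul_index hlt.le
        rw [index_line hn hcard hcl hx1] at h2
        rcases (Nat.dvd_prime hp.out).1 (Dvd.intro_left _ h2) with h3 | h3
        · exact index_eq_one.1 h3
        · rw [h3] at h2
          exact absurd (relIndex_eq_one.1 ((mul_eq_right₀ hp.out.ne_zero).1 h2)) (not_le_of_gt hlt)
    exact mem_centMod.1 (hall ▸ mem_top v)
  have h2 := relIndex_mul_index hle
  rw [index_line hn hcard hcl hx1] at h2
  rcases (Nat.dvd_prime hp.out).1 (Dvd.intro_left _ h2) with h3 | h3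
  · exact absurd (index_eq_one.1 h3) hne
  · rw [h3] at h2
    exact le_antisymm (relIndex_eq_one.1 ((mul_eq_right₀ hp.out.ne_zero).1 h2)) hle

/-- The centraliser of `x` modulo the `m + 1`-st term is `⟨x⟩ L m`. -/
theorem centMod_eq {m : ℕ} (hm1 : 1 ≤ m) (hm : m + 1 ≤ n - 1) :
    centMod (lcs S (m + 1)) x = zpowers x ⊔ lcs S m := by
  refine le_antisymm (fun v hv => ?_) (sup_le (zpowers_le.2 (mem_centMod.2 ?_)) fun z hz => mem_centMod.2 ?_)
  · have h2 : v ∈ zpowers x ⊔ lcs S 1 :=
      centMod_two hn hcard hcl hx1 ▸ mem_centMod.2 (lcs_antitone (by omega) (mem_centMod.1 hv))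
    rw [mem_sup_of_normal_right] at h2
    obtain ⟨a, ha, w, hw, rfl⟩ := h2
    have hxa : zpowers x ≤ centMod (lcs S (m + 1)) x :=
      zpowers_le.2 (mem_centMod.2 (by rw [commutatorElement_self]; exact one_mem _))
    have h3 : w ∈ centMod (lcs S (m + 1)) x := by
      simpa using mul_mem (inv_mem (hxa ha)) hv
    exact mul_mem (mem_sup_left ha) (mem_sup_right (deep hn hcard hcl hx hm hw (mem_centMod.1 h3)))
  · rw [commutatorElement_self]; exact one_mem _
  · rw [lcs_succ]; exact commutator_mem_commutator hz (mem_top x)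

/-- Something in `L (m - 1)` moves `x` modulo `L (m + 1)`. -/
theorem exists_move {m : ℕ} (hm1 : 1 ≤ m) (hm : m + 1 ≤ n - 1) :
    ∃ u : S, ⁅u, x⁆ ∈ lcs S m ∧ ⁅u, x⁆ ∉ lcs S (m + 1) := by
  obtain ⟨k, rfl⟩ : ∃ k, m = k + 1 := ⟨m - 1, by omega⟩
  rcases Nat.eq_zero_or_pos k with rfl | hk
  · obtain ⟨u, hu⟩ : ∃ u, u ∉ centMod (lcs S 2) x := by
      by_contra! h
      have htop : centMod (lcs S 2) x = ⊤ := eq_top_iff.2 fun u _ => h u
      have := index_line hn hcard hcl hx1
      rw [← centMod_two hn hcard hcl hx1, htop, index_top] at this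
      exact hp.out.ne_one this.symm
    refine ⟨u, ?_, fun h => hu (mem_centMod.2 h)⟩
    rw [zero_add, lcs_one, _root_.commutator_def]
    exact commutator_mem_commutator (mem_top u) (mem_top x)
  · have := hx k hk (by omega)
    rw [mem_two] at this
    push Not at this
    obtain ⟨u, hu, hu'⟩ := this
    refine ⟨u, ?_, fun h => hu' ?_⟩
    · rw [lcs_succ]; exact commutator_mem_commutator hu (mem_top x)
    · rw [← commutatorElement_inv]
      exact inv_mem h

theorem relIndex_line {m : ℕ} (hm1 : 1 ≤ m) (hm : m + 1 ≤ n - 1) :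
    (lcs S (m + 1)).relIndex (zpowers x ⊔ lcs S m) = p ^ 2 := by
  rw [← relIndex_mul_relIndex _ (lcs S m) _ (lcs_le m) le_sup_right,
    MaxClassRank.step_relIndex hn hcard hcl hm1 hm, pow_two]
  congr 1
  rw [relIndex_sup_right]
  exact relIndex_zpowers _ (fun h => hx1 (lcs_antitone hm1 h)) (pow_mem hn hcard hcl hx1 hx hm)

end Cfsg.Agent.GenA.MaxClassFusion
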