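import Cfsg.Agent.GenA.MaxClassFusion.Descent
import Cfsg.Prelude.Def_Solvable

/-!
A group whose Sylow subgroup has maximal class either has an element with small centraliser or has few
normal subgroups.
-/

set_option autoImplicit false

namespace Cfsg.Agent.GenA.MaxClassFusion

open Subgroup
open Cfsg.Agent.PGroups.MaximalClass
open scoped commutatorElement

universe u v

variable {S : Type u} [Group S] [Finite S] {p : ℕ} [hp : Fact p.Prime] {n : ℕ}
  (hn : 3 ≤ n) (hcard : Nat.card S = p ^ n) (hcl : Group.nilpotencyClass S = n - 1) {x : S}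
  (hx1 : x ∉ lcs S 1) (hx : ∀ i, 1 ≤ i → i + 2 ≤ n - 1 → x ∉ two S i)
include hn hcard hcl hx1 hx

theorem small_of_normal : ∀ m, 1 ≤ m → m ≤ n - 1 → ∀ (H : Type v) [Group H] [Finite H] (f : S →* H),
    f.ker = lcs S m → ¬ p ∣ f.range.index → ∀ N : Subgroup H, N.Normal → lcs S 1 ≤ N.comap f →
    f x ∉ N → Small p (f x) := by
  intro m hm1
  induction m, hm1 using Nat.le_induction with
  | base =>
    intro h H _ _ f hker hidx N _ _ _
    refine small_of_sylow_two f hidx ?_ (f x)
    rw [← index_ker, hker]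
    exact index_lcs hn hcard hcl le_rfl h
  | succ m hm1 ih =>
    intro h H _ _ f hker hidx N hN hle hxN
    have hle' : lcs S m ≤ N.comap f := (lcs_antitone hm1).trans hle
    refine descend hn hcard hcl hx1 hx f hm1 h hker N hle' hxN ?_
    exact ih (by omega) _ (fq f m hker.ge) (fq_ker f m hker) (fq_index f m hker.ge hidx)
      ((N.subgroupOf (Cz f m)).map (QuotientGroup.mk' (Zc f m)))
      ((normal_subgroupOf).map _ (QuotientGroup.mk'_surjective _))
      (fun s hs => fq_normal_mem f hker.ge N s (hle hs))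
      (fq_normal_not_mem f hker.ge N hle' x hxN)

theorem small_of_normal_two (h4 : 4 ≤ n) {H : Type v} [Group H] [Finite H] (f : S →* H)
    (hker : f.ker = lcs S (n - 1)) (hidx : ¬ p ∣ f.range.index) (N : Subgroup H) [N.Normal]
    (hN : lcs S (n - 3) ≤ N.comap f) (hxN : f x ∉ N) : Small p (f x) := by
  obtain ⟨m, rfl⟩ : ∃ m, n = m + 4 := ⟨n - 4, by omega⟩
  simp only [show m + 4 - 1 = m + 2 + 1 by omega, show m + 4 - 3 = m + 1 by omega] at hker hN
  have hN' : lcs S (m + 2) ≤ N.comap f := (lcs_le (m + 1)).trans hN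
  refine descend hn hcard hcl hx1 hx f (m := m + 2) (by omega) (by omega) hker N hN' hxN ?_
  set f₁ := fq f (m + 2) hker.ge with hf₁
  have hker₁ : f₁.ker = lcs S (m + 1 + 1) := fq_ker f (m + 2) hker
  haveI : ((N.subgroupOf (Cz f (m + 2))).map (QuotientGroup.mk' (Zc f (m + 2)))).Normal :=
    (normal_subgroupOf).map _ (QuotientGroup.mk'_surjective _)
  refine descend hn hcard hcl hx1 hx f₁ (m := m + 1) (by omega) (by omega) hker₁
    ((N.subgroupOf (Cz f (m + 2))).map (QuotientGroup.mk' (Zc f (m + 2))))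
    (fun s hs => fq_normal_mem f hker.ge N s (hN hs)) (fq_normal_not_mem f hker.ge N hN' x hxN) ?_
  -- the centraliser of the second centre
  set T := ((centralizer (((lcs S (m + 1)).map f : Subgroup H) : Set H)).subgroupOf (Cz f (m + 2))).map
    (QuotientGroup.mk' (Zc f (m + 2)))
  have hTn : (T.subgroupOf (Cz f₁ (m + 1))).Normal := by
    refine ⟨fun t ht g => ?_⟩
    obtain ⟨b, hb, eb⟩ := ht
    obtain ⟨a, ea⟩ := QuotientGroup.mk'_surjective (Zc f (m + 2)) (g : ↥(Cz f (m + 2)) ⧸ Zc f (m + 2))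
    refine ⟨a * b * a⁻¹, ?_, by
      rw [map_mul, map_mul, map_inv, eb, ea]; rfl⟩
    show (a : H) * b * (a : H)⁻¹ ∈ centralizer (((lcs S (m + 1)).map f : Subgroup H) : Set H)
    rw [mem_centralizer_iff]
    rintro _ ⟨s, hs, rfl⟩
    have h1 := mem_centralizer_iff.1 (inv_mem g.2) _ (mem_map_of_mem f₁ hs)
    have h2 : QuotientGroup.mk' (Zc f (m + 2)) (⟨f s, mem_Cz f hker.ge s⟩⁻¹ * (a⁻¹ * ⟨f s, mem_Cz f hker.ge s⟩ * a)) = 1 := by
      rw [map_mul, map_mul, map_mul, map_inv, map_inv, ea, ← fq_apply f (m + 2) hker.ge s]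
      change f₁ s * _ = _ * f₁ s at h1
      show (f₁ s)⁻¹ * (_ * f₁ s * _) = 1
      rw [← h1, inv_mul_cancel_right, inv_mul_cancel]
    rw [QuotientGroup.mk'_apply, QuotientGroup.eq_one_iff] at h2
    obtain ⟨z, hz, ez⟩ := h2
    have h3 : (a : H)⁻¹ * f s * a ∈ (lcs S (m + 1)).map f := by
      refine ⟨s * z, mul_mem hs (lcs_le (m + 1) hz), ?_⟩
      rw [map_mul, ez]
      show f s * ((f s)⁻¹ * ((a : H)⁻¹ * f s * a)) = _
      rw [mul_inv_cancel_left]
    have h4 : Commute ((a : H)⁻¹ * f s * a) (b : H) := mem_centralizer_iff.1 hb _ h3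
    calc f s * ((a : H) * b * (a : H)⁻¹) = a * (((a : H)⁻¹ * f s * a) * b) * (a : H)⁻¹ := by group
      _ = a * (b * ((a : H)⁻¹ * f s * a)) * (a : H)⁻¹ := by rw [h4.eq]
      _ = (a : H) * b * (a : H)⁻¹ * f s := by group
  have habel : ∀ a ∈ lcs S (m + 1), ∀ b ∈ lcs S (m + 1), f a * f b = f b * f a := fun a ha b hb =>
    MaxClassRank.mul_comm_map f (by
      rw [hker]; exact (MaxClassRank.commutator_lcs_le _ _).trans (lcs_antitone (by omega))) ha hb
  refine small_of_normal hn hcard hcl hx1 hx (m + 1) (by omega) (by omega) _ (fq f₁ (m + 1) hker₁.ge)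
    (fq_ker f₁ (m + 1) hker₁) (fq_index f₁ (m + 1) hker₁.ge (fq_index f (m + 2) hker.ge hidx))
    ((T.subgroupOf (Cz f₁ (m + 1))).map (QuotientGroup.mk' (Zc f₁ (m + 1))))
    (hTn.map _ (QuotientGroup.mk'_surjective _)) (fun s hs => ?_) ?_
  · refine fq_normal_mem f₁ hker₁.ge T s (fq_normal_mem f hker.ge _ s ?_)
    rw [mem_centralizer_iff]
    rintro _ ⟨w, hw, rfl⟩
    refine MaxClassRank.mul_comm_map f ?_ hw hs
    rw [hker]
    exact (MaxClassRank.commutator_lcs_le _ _).trans (lcs_antitone (by omega))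
  · have hZW : lcs S (m + 2) ≤ (centralizer (((lcs S (m + 1)).map f : Subgroup H) : Set H)).comap f :=
      fun z hz => mem_centralizer_iff.2 (by
        rintro _ ⟨w, hw, rfl⟩
        exact habel w hw z (lcs_le (m + 1) hz))
    refine fq_normal_not_mem f₁ hker₁.ge T (fun w hw => fq_normal_mem f hker.ge _ w ?_) x
      (fq_normal_not_mem f hker.ge _ hZW x fun hc => ?_)
    · rw [mem_centralizer_iff]
      rintro _ ⟨w', hw', rfl⟩
      exact habel w' hw' w hw
    · refine hx (m + 1) (by omega) (by omega) (mem_two.2 fun w hw => ?_)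
      have h1 := mem_centralizer_iff.1 hc _ (mem_map_of_mem f hw)
      rw [show m + 1 + 2 = m + 2 + 1 from rfl, ← hker, MonoidHom.mem_ker, map_commutatorElement,
        commutatorElement_eq_one_iff_mul_comm]
      exact h1.symm

end Cfsg.Agent.GenA.MaxClassFusion
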